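import Cfsg.Agent.H714.Fi22.Cox1_m3
import Cfsg.Agent.Prune
set_option linter.all false

-- part: H714/Fi22/Cox2
section
set_option linter.all false

/-! # The Coxeter relations, part 2 (helper714) -/

set_option autoImplicit false
set_option maxRecDepth 100000

namespace Cfsg.Agent.H714.Fi22.Rep

open Cfsg.Spor Cfsg.Agent.Lib.PermNet Cfsg.Agent.Lib.PermNetOrbit Cfsg.Agent.H714.Fi22.Nets

theorem p_bh : pairB .b .h = true := by decide +kernel
theorem p_bi : pairB .b .i = true := by decide +kernel
theorem p_cc : pairB .c .c = true := by decide +kernel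
theorem p_cd : pairB .c .d = true := by decide +kernel
theorem p_ce : pairB .c .e = true := by decide +kernel
theorem p_cf : pairB .c .f = true := by decide +kernel
theorem p_cg : pairB .c .g = true := by decide +kernel
theorem p_ch : pairB .c .h = true := by decide +kernel
theorem p_ci : pairB .c .i = true := by decide +kernel
theorem p_dd : pairB .d .d = true := by decide +kernel
theorem p_de : pairB .d .e = true := by decide +kernel
theorem p_df : pairB .d .f = true := by decide +kernel
theorem p_dg : pairB .d .g = true := by decide +kernel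
theorem p_dh : pairB .d .h = true := by decide +kernel
theorem p_di : pairB .d .i = true := by decide +kernel

end Cfsg.Agent.H714.Fi22.Rep
end

-- part: H714/Fi22/RelSpi
section
set_option linter.all false
open scoped Cfsg.Agent.FastGrp

/-! # One of the further relations of `Fi22` (helper714) -/

set_option autoImplicit false
set_option maxRecDepth 100000

namespace Cfsg.Agent.H714.Fi22.Rep

open Cfsg.Spor Cfsg.Agent.Lib.PermNet Cfsg.Agent.Lib.PermNetOrbit Cfsg.Agent.H714.Fi22.Nets

theorem spi0 : checkPlane 17 (wpow (nw [.d, .c, .b, .d, .e, .f, .d, .h, .i]) 10) [] 0 = true := by decide +kernel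
theorem spi1 : checkPlane 17 (wpow (nw [.d, .c, .b, .d, .e, .f, .d, .h, .i]) 10) [] 1 = true := by decide +kernel
theorem spi2 : checkPlane 17 (wpow (nw [.d, .c, .b, .d, .e, .f, .d, .h, .i]) 10) [] 2 = true := by decide +kernel
theorem spi3 : checkPlane 17 (wpow (nw [.d, .c, .b, .d, .e, .f, .d, .h, .i]) 10) [] 3 = true := by decide +kernel
theorem spi4 : checkPlane 17 (wpow (nw [.d, .c, .b, .d, .e, .f, .d, .h, .i]) 10) [] 4 = true := by decide +kernel
theorem spi5 : checkPlane 17 (wpow (nw [.d, .c, .b, .d, .e, .f, .d, .h, .i]) 10) [] 5 = true := by decide +kernel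
theorem spi6 : checkPlane 17 (wpow (nw [.d, .c, .b, .d, .e, .f, .d, .h, .i]) 10) [] 6 = true := by decide +kernel
theorem spi7 : checkPlane 17 (wpow (nw [.d, .c, .b, .d, .e, .f, .d, .h, .i]) 10) [] 7 = true := by decide +kernel
theorem spi8 : checkPlane 17 (wpow (nw [.d, .c, .b, .d, .e, .f, .d, .h, .i]) 10) [] 8 = true := by decide +kernel
theorem spi9 : checkPlane 17 (wpow (nw [.d, .c, .b, .d, .e, .f, .d, .h, .i]) 10) [] 9 = true := by decide +kernel
theorem spi10 : checkPlane 17 (wpow (nw [.d, .c, .b, .d, .e, .f, .d, .h, .i]) 10) [] 10 = true := by decide +kernel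
theorem spi11 : checkPlane 17 (wpow (nw [.d, .c, .b, .d, .e, .f, .d, .h, .i]) 10) [] 11 = true := by decide +kernel
theorem spi12 : checkPlane 17 (wpow (nw [.d, .c, .b, .d, .e, .f, .d, .h, .i]) 10) [] 12 = true := by decide +kernel
theorem spi13 : checkPlane 17 (wpow (nw [.d, .c, .b, .d, .e, .f, .d, .h, .i]) 10) [] 13 = true := by decide +kernel
theorem spi14 : checkPlane 17 (wpow (nw [.d, .c, .b, .d, .e, .f, .d, .h, .i]) 10) [] 14 = true := by decide +kernel
theorem spi15 : checkPlane 17 (wpow (nw [.d, .c, .b, .d, .e, .f, .d, .h, .i]) 10) [] 15 = true := by decide +kernel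
theorem spi16 : checkPlane 17 (wpow (nw [.d, .c, .b, .d, .e, .f, .d, .h, .i]) 10) [] 16 = true := by decide +kernel

theorem spi_eq : (wperm (nw [.d, .c, .b, .d, .e, .f, .d, .h, .i])) ^ 10 = 1 := by
  rw [← wperm_wpow, ← wperm_nil]
  refine wperm_eq_of_planes (k := 17) (Cfsg.Agent.Lib.PermNetOrbit.WOk.wpow (nw_ok _) _) (WOk.nil _) ?_
  intro b hb
  interval_cases b
  · exact spi0
  · exact spi1
  · exact spi2
  · exact spi3
  · exact spi4
  · exact spi5
  · exact spi6
  · exact spi7
  · exact spi8
  · exact spi9
  · exact spi10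
  · exact spi11
  · exact spi12
  · exact spi13
  · exact spi14
  · exact spi15
  · exact spi16

end Cfsg.Agent.H714.Fi22.Rep
end
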