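import Cfsg.Agent.H714.Fi22.Cox1_m3
import Cfsg.Agent.H714.Fi22.Cox2_m3
import Cfsg.Agent.FastGrp
import Cfsg.Agent.Prune
set_option linter.all false

-- part: H714/Fi22/RelE7a
section
set_option linter.all false
open scoped Cfsg.Agent.FastGrp

/-! # One of the further relations of `Fi22` (helper714) -/

set_option autoImplicit false
set_option maxRecDepth 100000

namespace Cfsg.Agent.H714.Fi22.Rep

open Cfsg.Spor Cfsg.Agent.Lib.PermNet Cfsg.Agent.Lib.PermNetOrbit Cfsg.Agent.H714.Fi22.Nets

theorem e7a0 : checkPlane 17 (wpow (nw [.a, .b, .c, .d, .e, .f, .h]) 9) [] 0 = true := by decide +kernel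
theorem e7a1 : checkPlane 17 (wpow (nw [.a, .b, .c, .d, .e, .f, .h]) 9) [] 1 = true := by decide +kernel
theorem e7a2 : checkPlane 17 (wpow (nw [.a, .b, .c, .d, .e, .f, .h]) 9) [] 2 = true := by decide +kernel
theorem e7a3 : checkPlane 17 (wpow (nw [.a, .b, .c, .d, .e, .f, .h]) 9) [] 3 = true := by decide +kernel
theorem e7a4 : checkPlane 17 (wpow (nw [.a, .b, .c, .d, .e, .f, .h]) 9) [] 4 = true := by decide +kernel
theorem e7a5 : checkPlane 17 (wpow (nw [.a, .b, .c, .d, .e, .f, .h]) 9) [] 5 = true := by decide +kernel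
theorem e7a6 : checkPlane 17 (wpow (nw [.a, .b, .c, .d, .e, .f, .h]) 9) [] 6 = true := by decide +kernel
theorem e7a7 : checkPlane 17 (wpow (nw [.a, .b, .c, .d, .e, .f, .h]) 9) [] 7 = true := by decide +kernel
theorem e7a8 : checkPlane 17 (wpow (nw [.a, .b, .c, .d, .e, .f, .h]) 9) [] 8 = true := by decide +kernel
theorem e7a9 : checkPlane 17 (wpow (nw [.a, .b, .c, .d, .e, .f, .h]) 9) [] 9 = true := by decide +kernel
theorem e7a10 : checkPlane 17 (wpow (nw [.a, .b, .c, .d, .e, .f, .h]) 9) [] 10 = true := by decide +kernel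
theorem e7a11 : checkPlane 17 (wpow (nw [.a, .b, .c, .d, .e, .f, .h]) 9) [] 11 = true := by decide +kernel
theorem e7a12 : checkPlane 17 (wpow (nw [.a, .b, .c, .d, .e, .f, .h]) 9) [] 12 = true := by decide +kernel
theorem e7a13 : checkPlane 17 (wpow (nw [.a, .b, .c, .d, .e, .f, .h]) 9) [] 13 = true := by decide +kernel
theorem e7a14 : checkPlane 17 (wpow (nw [.a, .b, .c, .d, .e, .f, .h]) 9) [] 14 = true := by decide +kernel
theorem e7a15 : checkPlane 17 (wpow (nw [.a, .b, .c, .d, .e, .f, .h]) 9) [] 15 = true := by decide +kernel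
theorem e7a16 : checkPlane 17 (wpow (nw [.a, .b, .c, .d, .e, .f, .h]) 9) [] 16 = true := by decide +kernel

theorem e7a_eq : (wperm (nw [.a, .b, .c, .d, .e, .f, .h])) ^ 9 = 1 := by
  rw [← wperm_wpow, ← wperm_nil]
  refine wperm_eq_of_planes (k := 17) (Cfsg.Agent.Lib.PermNetOrbit.WOk.wpow (nw_ok _) _) (WOk.nil _) ?_
  intro b hb
  interval_cases b
  · exact e7a0
  · exact e7a1
  · exact e7a2
  · exact e7a3
  · exact e7a4
  · exact e7a5
  · exact e7a6
  · exact e7a7
  · exact e7a8
  · exact e7a9
  · exact e7a10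
  · exact e7a11
  · exact e7a12
  · exact e7a13
  · exact e7a14
  · exact e7a15
  · exact e7a16

end Cfsg.Agent.H714.Fi22.Rep
end

-- part: H714/Fi22/RelE7b
section
set_option linter.all false
open scoped Cfsg.Agent.FastGrp

/-! # One of the further relations of `Fi22` (helper714) -/

set_option autoImplicit false
set_option maxRecDepth 100000

namespace Cfsg.Agent.H714.Fi22.Rep

open Cfsg.Spor Cfsg.Agent.Lib.PermNet Cfsg.Agent.Lib.PermNetOrbit Cfsg.Agent.H714.Fi22.Nets

theorem e7b0 : checkPlane 17 (wpow (nw [.b, .c, .d, .e, .f, .g, .h]) 9) [] 0 = true := by decide +kernel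
theorem e7b1 : checkPlane 17 (wpow (nw [.b, .c, .d, .e, .f, .g, .h]) 9) [] 1 = true := by decide +kernel
theorem e7b2 : checkPlane 17 (wpow (nw [.b, .c, .d, .e, .f, .g, .h]) 9) [] 2 = true := by decide +kernel
theorem e7b3 : checkPlane 17 (wpow (nw [.b, .c, .d, .e, .f, .g, .h]) 9) [] 3 = true := by decide +kernel
theorem e7b4 : checkPlane 17 (wpow (nw [.b, .c, .d, .e, .f, .g, .h]) 9) [] 4 = true := by decide +kernel
theorem e7b5 : checkPlane 17 (wpow (nw [.b, .c, .d, .e, .f, .g, .h]) 9) [] 5 = true := by decide +kernel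
theorem e7b6 : checkPlane 17 (wpow (nw [.b, .c, .d, .e, .f, .g, .h]) 9) [] 6 = true := by decide +kernel
theorem e7b7 : checkPlane 17 (wpow (nw [.b, .c, .d, .e, .f, .g, .h]) 9) [] 7 = true := by decide +kernel
theorem e7b8 : checkPlane 17 (wpow (nw [.b, .c, .d, .e, .f, .g, .h]) 9) [] 8 = true := by decide +kernel
theorem e7b9 : checkPlane 17 (wpow (nw [.b, .c, .d, .e, .f, .g, .h]) 9) [] 9 = true := by decide +kernel
theorem e7b10 : checkPlane 17 (wpow (nw [.b, .c, .d, .e, .f, .g, .h]) 9) [] 10 = true := by decide +kernel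
theorem e7b11 : checkPlane 17 (wpow (nw [.b, .c, .d, .e, .f, .g, .h]) 9) [] 11 = true := by decide +kernel
theorem e7b12 : checkPlane 17 (wpow (nw [.b, .c, .d, .e, .f, .g, .h]) 9) [] 12 = true := by decide +kernel
theorem e7b13 : checkPlane 17 (wpow (nw [.b, .c, .d, .e, .f, .g, .h]) 9) [] 13 = true := by decide +kernel
theorem e7b14 : checkPlane 17 (wpow (nw [.b, .c, .d, .e, .f, .g, .h]) 9) [] 14 = true := by decide +kernel
theorem e7b15 : checkPlane 17 (wpow (nw [.b, .c, .d, .e, .f, .g, .h]) 9) [] 15 = true := by decide +kernel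
theorem e7b16 : checkPlane 17 (wpow (nw [.b, .c, .d, .e, .f, .g, .h]) 9) [] 16 = true := by decide +kernel

theorem e7b_eq : (wperm (nw [.b, .c, .d, .e, .f, .g, .h])) ^ 9 = 1 := by
  rw [← wperm_wpow, ← wperm_nil]
  refine wperm_eq_of_planes (k := 17) (Cfsg.Agent.Lib.PermNetOrbit.WOk.wpow (nw_ok _) _) (WOk.nil _) ?_
  intro b hb
  interval_cases b
  · exact e7b0
  · exact e7b1
  · exact e7b2
  · exact e7b3
  · exact e7b4
  · exact e7b5
  · exact e7b6
  · exact e7b7
  · exact e7b8
  · exact e7b9
  · exact e7b10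
  · exact e7b11
  · exact e7b12
  · exact e7b13
  · exact e7b14
  · exact e7b15
  · exact e7b16

end Cfsg.Agent.H714.Fi22.Rep
end

-- part: H714/Fi22/Rep
section
set_option linter.all false
open scoped Cfsg.Agent.FastGrp

/-!
# The action of `Fi22` on the `2 * 61776` cosets of `Ω₈⁺(2) : 3` (helper714)
-/

set_option autoImplicit false
set_option maxRecDepth 100000

namespace Cfsg.Agent.H714.Fi22.Rep

open Cfsg.Spor Cfsg.Agent.Lib.PermNet Cfsg.Agent.Lib.PermNetOrbit Cfsg.Agent.H714.Fi22.Nets

/-- the position of a generator -/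
def pos : Fi22.Gen → ℕ
  | .a => 0
  | .b => 1
  | .c => 2
  | .d => 3
  | .e => 4
  | .f => 5
  | .g => 6
  | .h => 7
  | .i => 8

theorem pairB_of_le (x y : Fi22.Gen) (h : pos x ≤ pos y) : pairB x y = true := by
  cases x <;> cases y
  · exact p_aa
  · exact p_ab
  · exact p_ac
  · exact p_ad
  · exact p_ae
  · exact p_af
  · exact p_ag
  · exact p_ah
  · exact p_ai
  · exact absurd h (by decide)
  · exact p_bb
  · exact p_bc
  · exact p_bd
  · exact p_be
  · exact p_bf
  · exact p_bg
  · exact p_bh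
  · exact p_bi
  · exact absurd h (by decide)
  · exact absurd h (by decide)
  · exact p_cc
  · exact p_cd
  · exact p_ce
  · exact p_cf
  · exact p_cg
  · exact p_ch
  · exact p_ci
  · exact absurd h (by decide)
  · exact absurd h (by decide)
  · exact absurd h (by decide)
  · exact p_dd
  · exact p_de
  · exact p_df
  · exact p_dg
  · exact p_dh
  · exact p_di
  · exact absurd h (by decide)
  · exact absurd h (by decide)
  · exact absurd h (by decide)
  · exact absurd h (by decide)
  · exact p_ee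
  · exact p_ef
  · exact p_eg
  · exact p_eh
  · exact p_ei
  · exact absurd h (by decide)
  · exact absurd h (by decide)
  · exact absurd h (by decide)
  · exact absurd h (by decide)
  · exact absurd h (by decide)
  · exact p_ff
  · exact p_fg
  · exact p_fh
  · exact p_fi
  · exact absurd h (by decide)
  · exact absurd h (by decide)
  · exact absurd h (by decide)
  · exact absurd h (by decide)
  · exact absurd h (by decide)
  · exact absurd h (by decide)
  · exact p_gg
  · exact p_gh
  · exact p_gi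
  · exact absurd h (by decide)
  · exact absurd h (by decide)
  · exact absurd h (by decide)
  · exact absurd h (by decide)
  · exact absurd h (by decide)
  · exact absurd h (by decide)
  · exact absurd h (by decide)
  · exact p_hh
  · exact p_hi
  · exact absurd h (by decide)
  · exact absurd h (by decide)
  · exact absurd h (by decide)
  · exact absurd h (by decide)
  · exact absurd h (by decide)
  · exact absurd h (by decide)
  · exact absurd h (by decide)
  · exact absurd h (by decide)
  · exact p_ii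

/-- The permutation of a generator. -/
noncomputable def f (x : Fi22.Gen) : Equiv.Perm ℕ := (net x).perm

theorem wperm_nw (w : List Fi22.Gen) : wperm (nw w) = (w.map f).prod := by
  rw [wperm, nw, List.map_map]; rfl

theorem pair_rel' (x y : Fi22.Gen) (h : pos x ≤ pos y) : (f x * f y) ^ coxLabel Fi22.edges x y = 1 := by
  have h1 := wperm_eq_of_checkEq (k := 17) (w' := [])
    (Cfsg.Agent.Lib.PermNetOrbit.WOk.wpow (nw_ok [x, y]) _) (WOk.nil _) (pairB_of_le x y h)
  rw [wperm_nil, wperm_wpow] at h1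
  change (wperm (nw [x, y])) ^ coxLabel Fi22.edges x y = 1 at h1
  rw [wperm_nw] at h1
  simpa using h1

theorem label_symm (x y : Fi22.Gen) : coxLabel Fi22.edges x y = coxLabel Fi22.edges y x := by
  cases x <;> cases y <;> decide

theorem pair_rel (x y : Fi22.Gen) : (f x * f y) ^ coxLabel Fi22.edges x y = 1 := by
  rcases le_total (pos x) (pos y) with h | h
  · exact pair_rel' x y h
  · have h1 := pair_rel' y x h
    rw [label_symm x y]
    have h2 : f x * f y = (f y)⁻¹ * (f y * f x) * ((f y)⁻¹)⁻¹ := by group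
    rw [h2, conj_pow, h1, mul_one, inv_inv, inv_mul_cancel]

theorem extra_rel : ∀ r ∈ Fi22.extra, FreeGroup.lift f r = 1 := by
  intro r hr
  rw [Fi22.extra, List.mem_cons, List.mem_cons, List.mem_cons] at hr
  rcases hr with rfl | rfl | rfl | hr
  · have := spi_eq
    rw [wperm_nw] at this
    simpa [mul_assoc] using this
  · have := e7a_eq
    rw [wperm_nw] at this
    simpa [mul_assoc] using this
  · have := e7b_eq
    rw [wperm_nw] at this
    simpa [mul_assoc] using this
  · exact absurd hr (by simp)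

/-- The permutation representation. -/
noncomputable def φ : Fi22 →* Equiv.Perm ℕ :=
  PresentedGroup.toGroup (f := f) (cox_lift_eq_one f Fi22.edges Fi22.extra (fun x _ y _ => pair_rel x y) extra_rel)

theorem φ_of (x : Fi22.Gen) : φ (PresentedGroup.of x) = (net x).perm := PresentedGroup.toGroup.of _

/-- the value of a word -/
def wd (w : List Fi22.Gen) : Fi22 := (w.map fun x => (PresentedGroup.of x : Fi22)).prod

theorem φ_wd (w : List Fi22.Gen) : φ (wd w) = wperm (nw w) := by
  rw [wd, map_list_prod, List.map_map, nw, wperm, List.map_map]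
  congr 1

theorem φ_wd_apply (w : List Fi22.Gen) (p : ℕ) : φ (wd w) p = ptWord (nw w) p := by
  rw [φ_wd, ptWord_eq (nw_ok w)]

end Cfsg.Agent.H714.Fi22.Rep

private theorem dce_9716d25c4c82 : _root_.True := by
  try have : _root_.True := by simp only [_root_.Cfsg.Agent.H714.Fi22.Rep.nw.eq_1]
  try have : _root_.True := by simp only [_root_.Cfsg.Spor.Fi22.extra.eq_1]
  try have : _root_.True := by simp only [_root_.Cfsg.Spor.coxLabel.congr_simp]
  try have : _root_.True := by simp only [_root_.Cfsg.Agent.H714.Fi22.Rep.wd.eq_1]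
  exact _root_.True.intro
end

-- part: H714/Fi22/Words
section
set_option linter.all false
open scoped Cfsg.Agent.FastGrp

/-!
# The stabilizer `Ω₈⁺(2) : 3` of a point: generators, orbits (helper714)

The group `K` is generated by the products `a x` of two transpositions of `Ω₈⁺(2) : S₃`.
-/

set_option autoImplicit false
set_option maxRecDepth 100000

namespace Cfsg.Agent.H714.Fi22.Stab

open Cfsg.Spor Cfsg.Agent.Lib.PermNet Cfsg.Agent.Lib.PermNetOrbit Cfsg.Agent.H714.Fi22.Rep

/-- the word of a transposition completing the diagram `E₈` -/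
def t8 : List Fi22.Gen :=
  [.h, .d, .e, .c, .d, .h, .i, .f, .e, .d, .h, .g, .f, .e, .d, .c, .d, .e, .f, .g, .h, .d, .e, .f, .i, .h, .d,
  .c, .e, .d, .h]

/-- the word of a transposition of another class -/
def t5 : List Fi22.Gen :=
  [.h, .i, .d, .h, .e, .f, .c, .d, .e, .b, .c, .d, .h, .i, .f, .d, .e, .b, .c, .d, .h, .g, .f, .e, .d, .c, .b,
  .a, .b, .c, .d, .e, .f, .g, .h, .d, .c, .b, .e, .d, .f, .i, .h, .d, .c, .b, .e, .d, .c, .f, .e, .h, .d, .i,
  .h]

/-- the words of the generators of the stabilizer -/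
def kws : List (List Fi22.Gen) :=
  [[.a, .b], [.a, .c], [.a, .d], [.a, .e], [.a, .f], [.a, .g], [.a, .i], .a :: t8, .a :: t5]

/-- the generators of the stabilizer -/
def S : Set Fi22 := {g | ∃ w ∈ kws, wd w = g}

/-- **the stabilizer** -/
def K : Subgroup Fi22 := Subgroup.closure S

/-- the words of networks -/
noncomputable def wsK : List (List Net) := kws.map nw

theorem wsK_ok : WsOk (2 ^ 17) wsK := by
  intro w hw
  obtain ⟨v, _, rfl⟩ := List.mem_map.1 hw
  exact nw_ok v

theorem S_wsK : ∀ g ∈ S, ∃ w ∈ wsK, wperm w = φ g := by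
  rintro _ ⟨w, hw, rfl⟩
  exact ⟨nw w, List.mem_map.2 ⟨w, hw, rfl⟩, (φ_wd w).symm⟩

theorem wsK_S : ∀ w ∈ wsK, ∃ g ∈ S, wperm w = φ g := by
  intro w hw
  obtain ⟨v, hv, rfl⟩ := List.mem_map.1 hw
  exact ⟨wd v, ⟨v, hv, rfl⟩, (φ_wd v).symm⟩

/-- an interval of points -/
noncomputable def iv (a b : ℕ) : ℕ := Nat.sub (Nat.pow 2 b) (Nat.pow 2 a)

noncomputable def U0 : ℕ := iv 0 1
noncomputable def U1 : ℕ := Nat.shiftLeft (iv 0 1) 65536
noncomputable def U2 : ℕ := iv 1 1576
noncomputable def U3 : ℕ := Nat.shiftLeft (iv 1 1576) 65536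
noncomputable def U4 : ℕ := iv 1576 23976
noncomputable def U5 : ℕ := Nat.shiftLeft (iv 1576 23976) 65536
noncomputable def U6 : ℕ := Nat.lor (iv 23976 61776) (Nat.shiftLeft (iv 23976 61776) 65536)

/-- all points -/
noncomputable def V : ℕ := Nat.lor (iv 0 61776) (Nat.shiftLeft (iv 0 61776) 65536)

/-- the three checks of an orbit -/
noncomputable def orbB (r p U : ℕ) : Bool :=
  and (Nat.beq (sat wsK r (Nat.pow 2 p)) U) (and (closedB wsK U) (tb U p))

theorem orb_of {r p U : ℕ} (h : orbB r p U = true) (q : ℕ) :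
    U.testBit q = true ↔ ∃ g ∈ K, φ g p = q := by
  unfold orbB at h
  rw [Bool.and_eq_true, Bool.and_eq_true] at h
  have h1 := orbit_closure_eq φ S wsK_ok S_wsK wsK_S h.1 h.2.1 h.2.2
  have h2 := Set.ext_iff.1 h1 q
  rw [Set.mem_ofPred_eq, Set.mem_ofPred_eq] at h2
  exact h2.symm

end Cfsg.Agent.H714.Fi22.Stab
end

-- part: H714/Fi22/OrbB
section
set_option linter.all false

/-! # Orbits of the stabilizer (helper714) -/

set_option autoImplicit false
set_option maxRecDepth 100000

namespace Cfsg.Agent.H714.Fi22.Stab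

open Cfsg.Spor Cfsg.Agent.Lib.PermNet Cfsg.Agent.Lib.PermNetOrbit Cfsg.Agent.H714.Fi22.Rep

theorem o4 : orbB 3 1576 U4 = true := by decide +kernel
theorem o5 : orbB 3 67112 U5 = true := by decide +kernel

end Cfsg.Agent.H714.Fi22.Stab
end
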