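import Cfsg.Agent.H714.Fi22.OrbA_m3
import Cfsg.Agent.H714.Fi22.OrbB
import Cfsg.Agent.H714.Fi22.Cox1_m3
import Cfsg.Agent.Fischer.Fi22PtsRep
import Cfsg.Agent.H603.SporElim
import Cfsg.Agent.Lib.PermNetFast
import Cfsg.Agent.Prune
set_option linter.all false

section
prune_inst 0x7f00000000000000000000000000000000000000000000000000000000000000000000000000000000000000000000000000000000000000000000000000000000000000000000000000000000000000003fffffffffffffffffffffffffffbeffbdffffffff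

-- part: H714/Fi22/Stab
section
set_option linter.all false
open scoped Cfsg.Agent.FastGrp

/-!
# The stabilizer of a point is `K` (helper714)

A chain of stabilizers of transpositions gives `|K| ≥ 360 * 56 * 27 * 16 * 10 * 6 = |Fi22| / 123552`.
-/

set_option autoImplicit false
set_option maxRecDepth 100000

namespace Cfsg.Agent.H714.Fi22.Stab

open Cfsg.Spor Cfsg.Agent.Lib.PermNet Cfsg.Agent.Lib.PermNetOrbit Cfsg.Agent.H714.Fi22.Rep
open Cfsg.Agent.Fischer

theorem card_fi22 : Nat.card Fi22 = 64561751654400 := NotCT.Orders.fi22 ⟨MulEquiv.refl _⟩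

theorem finite_fi22 : Finite Fi22 := Nat.finite_of_card_ne_zero (by rw [card_fi22]; norm_num)

/-- the action of `K` on the transpositions -/
noncomputable def ψ : K →* Equiv.Perm ℕ := Fi22PtsRep.φ.comp K.subtype

/-- the words on the transpositions -/
noncomputable def wsP (l : List (List Fi22.Gen)) : List (List Net) := l.map Fi22PtsRep.nw

theorem wsP_ok (l : List (List Fi22.Gen)) : WsOk (2 ^ 12) (wsP l) := by
  intro w hw
  obtain ⟨v, _, rfl⟩ := List.mem_map.1 hw
  exact Fi22PtsRep.nw_ok v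

theorem wd_mem {w : List Fi22.Gen} (hw : w ∈ kws) : wd w ∈ K := Subgroup.subset_closure ⟨w, hw, rfl⟩

theorem wd_eq (w : List Fi22.Gen) : wd w = Fi22PtsRep.wd w := rfl

theorem himg {l : List (List Fi22.Gen)} (hl : ∀ w ∈ l, w ∈ kws) : ∀ w ∈ wsP l, ∃ g, ψ g = wperm w := by
  intro w hw
  obtain ⟨v, hv, rfl⟩ := List.mem_map.1 hw
  refine ⟨⟨wd v, wd_mem (hl v hv)⟩, ?_⟩
  show Fi22PtsRep.φ (wd v) = _
  rw [wd_eq, Fi22PtsRep.φ_wd]

/-- the checks of a step of the chain -/
noncomputable def stepB (l : List (List Fi22.Gen)) (qs : List ℕ) (p m r : ℕ) : Bool :=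
  and (fixAllB (wsP l) qs) (and (Nat.ble m (pc 12 (sat (wsP l) r (Nat.pow 2 p))))
    (Nat.beq (Nat.shiftRight (sat (wsP l) r (Nat.pow 2 p)) (Nat.pow 2 12)) 0))

theorem step {l : List (List Fi22.Gen)} {qs : List ℕ} {p m r : ℕ} (hl : ∀ w ∈ l, w ∈ kws)
    (h : stepB l qs p m r = true) : m * Nat.card (stabL ψ (p :: qs)) ≤ Nat.card (stabL ψ qs) := by
  have := finite_fi22
  unfold stepB at h
  rw [Bool.and_eq_true, Bool.and_eq_true] at h
  exact stabL_step_of_check ψ qs p m r (wsP_ok l) (himg hl) h.1 h.2.1 h.2.2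

theorem s0 : stepB kws [] 154 360 3 = true := by decide +kernel
theorem s1 : stepB [[.a, .b], [.a, .c], [.a, .d], [.a, .e], [.a, .i], .a :: t8] [154] 88 56 9 = true := by
  decide +kernel
theorem s2 : stepB [[.a, .b], [.a, .c], [.a, .d], [.a, .i], .a :: t8] [88, 154] 40 27 7 = true := by
  decide +kernel
theorem s3 : stepB [[.a, .b], [.a, .c], [.a, .i], .a :: t8] [40, 88, 154] 16 16 4 = true := by decide +kernel
theorem s4 : stepB [[.a, .b], [.a, .i], .a :: t8] [16, 40, 88, 154] 6 10 2 = true := by decide +kernel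
theorem s5 : stepB [[.a, .i], .a :: t8] [6, 16, 40, 88, 154] 2 6 2 = true := by decide +kernel

theorem card_K : 522547200 ≤ Nat.card K := by
  have := finite_fi22
  have h0 := step (fun w hw => hw) s0
  have h1 := step (by decide) s1
  have h2 := step (by decide) s2
  have h3 := step (by decide) s3
  have h4 := step (by decide) s4
  have h5 := step (by decide) s5
  have h6 : 1 ≤ Nat.card (stabL ψ [2, 6, 16, 40, 88, 154]) := Nat.card_pos
  have h7 : Nat.card (stabL ψ []) ≤ Nat.card K := Nat.le_of_dvd Nat.card_pos (Subgroup.card_subgroup_dvd_card _)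
  omega

/-- the classes -/
noncomputable def U (j : Fin 7) : ℕ := ![U0, U1, U2, U3, U4, U5, U6] j

/-- the points -/
def rp (j : Fin 7) : ℕ := ![0, 65536, 1, 65537, 1576, 67112, 23976] j

/-- the words to the points -/
def wg (j : Fin 7) : List Fi22.Gen :=
  ![[], [.a], [.h], [.h, .a], [.h, .i, .d, .h], [.h, .i, .d, .h, .a], [.h, .i, .d, .e, .c, .d, .h]] j

private theorem U_eq : U 0 = U0 ∧ U 1 = U1 ∧ U 2 = U2 ∧ U 3 = U3 ∧ U 4 = U4 ∧ U 5 = U5 ∧ U 6 = U6 := by
  simp only [U, Matrix.cons_val_zero, Matrix.cons_val_one, Matrix.cons_val, and_self]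

private theorem fin7 {P : Fin 7 → Prop} (h0 : P 0) (h1 : P 1) (h2 : P 2) (h3 : P 3) (h4 : P 4) (h5 : P 5) (h6 : P 6)
    (j : Fin 7) : P j := by
  fin_cases j
  exacts [h0, h1, h2, h3, h4, h5, h6]

theorem orb (j : Fin 7) (q : ℕ) : (U j).testBit q = true ↔ ∃ g ∈ K, φ g (rp j) = q := by
  obtain ⟨e0, e1, e2, e3, e4, e5, e6⟩ := U_eq
  revert j
  refine fin7 ?_ ?_ ?_ ?_ ?_ ?_ ?_
  · rw [e0]; exact orb_of o0 q
  · rw [e1]; exact orb_of o1 q
  · rw [e2]; exact orb_of o2 q
  · rw [e3]; exact orb_of o3 q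
  · rw [e4]; exact orb_of o4 q
  · rw [e5]; exact orb_of o5 q
  · rw [e6]; exact orb_of o6 q

theorem disj : ∀ i j, i ≠ j → U i &&& U j = 0 := by
  have h : ∀ i j : Fin 7, i ≠ j → Nat.beq (Nat.land (U i) (U j)) 0 = true := by decide +kernel
  exact fun i j hij => Nat.eq_of_beq_eq_true (h i j hij)

theorem gam (j : Fin 7) : φ (wd (wg j)) 0 = rp j := by
  have h : ∀ j : Fin 7, Nat.beq (ptWord (nw (wg j)) 0) (rp j) = true := by decide +kernel
  rw [φ_wd_apply]
  exact Nat.eq_of_beq_eq_true (h j)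

/-- the union of the classes -/
theorem V_eq : Nat.beq V (Nat.lor U0 (Nat.lor U1 (Nat.lor U2 (Nat.lor U3 (Nat.lor U4 (Nat.lor U5 U6)))))) = true := by
  decide +kernel

theorem eq_of_or {V A B C D E F G : ℕ}
    (h : Nat.beq V (Nat.lor A (Nat.lor B (Nat.lor C (Nat.lor D (Nat.lor E (Nat.lor F G)))))) = true) :
    V = A ||| (B ||| (C ||| (D ||| (E ||| (F ||| G))))) := Nat.eq_of_beq_eq_true h

theorem eq_of_card {V A : ℕ} (h : Nat.beq (Nat.shiftRight V (Nat.pow 2 17)) 0 = true)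
    (h' : Nat.beq (pc 17 V) A = true) : {p : ℕ | V.testBit p = true}.ncard = A := ncard_testBit h h'

theorem mem_V (p : ℕ) : V.testBit p = true ↔ ∃ j, (U j).testBit p = true := by
  rw [eq_of_or V_eq]
  simp only [Nat.testBit_or, Bool.or_eq_true]
  obtain ⟨e0, e1, e2, e3, e4, e5, e6⟩ := U_eq
  rw [← e0, ← e1, ← e2, ← e3, ← e4, ← e5, ← e6]
  constructor
  · rintro (h | h | h | h | h | h | h)
    exacts [⟨0, h⟩, ⟨1, h⟩, ⟨2, h⟩, ⟨3, h⟩, ⟨4, h⟩, ⟨5, h⟩, ⟨6, h⟩]
  · rintro ⟨j, hj⟩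
    revert j
    exact fin7 Or.inl (fun h => .inr (.inl h)) (fun h => .inr (.inr (.inl h))) (fun h => .inr (.inr (.inr (.inl h))))
      (fun h => .inr (.inr (.inr (.inr (.inl h))))) (fun h => .inr (.inr (.inr (.inr (.inr (.inl h))))))
      fun h => .inr (.inr (.inr (.inr (.inr (.inr h)))))

theorem closure_gen : Subgroup.closure (Set.range fun x : Fi22.Gen => (PresentedGroup.of x : Fi22)) = ⊤ :=
  PresentedGroup.closure_range_of _

theorem V_inv (g : Fi22) (p : ℕ) : V.testBit (φ g p) = V.testBit p := by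
  have hg : g ∈ Subgroup.closure (Set.range fun x : Fi22.Gen => (PresentedGroup.of x : Fi22)) := by
    rw [closure_gen]; trivial
  induction hg using Subgroup.closure_induction generalizing p with
  | mem y hy =>
    obtain ⟨x, rfl⟩ := hy
    have h1 := closedB_spec (N := 2 ^ 17) (ws := ws1 x) (by
      intro w hw
      rw [ws1, List.mem_singleton] at hw
      subst hw
      exact WOk.cons (net_ok x) (WOk.nil _)) (closed x) [net x] (List.mem_singleton.2 rfl) p
    rw [wperm_cons, wperm_nil, mul_one] at h1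
    show V.testBit (φ (PresentedGroup.of x) p) = _
    rw [φ_of]
    exact h1
  | one => rw [map_one]; rfl
  | mul x y _ _ hx hy => rw [map_mul, Equiv.Perm.mul_apply, hx, hy]
  | inv x _ hx => rw [← hx (φ x⁻¹ p), ← Equiv.Perm.mul_apply, ← map_mul, mul_inv_cancel, map_one]; rfl

theorem orbit_zero (p : ℕ) : (∃ g : Fi22, φ g 0 = p) ↔ V.testBit p = true := by
  constructor
  · rintro ⟨g, rfl⟩
    rw [V_inv, mem_V]
    exact ⟨0, (orb 0 0).2 ⟨1, K.one_mem, by rw [map_one]; rfl⟩⟩
  · intro h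
    obtain ⟨j, hj⟩ := (mem_V p).1 h
    obtain ⟨g, -, hg⟩ := (orb j p).1 hj
    exact ⟨g * wd (wg j), by rw [map_mul, Equiv.Perm.mul_apply, gam, hg]⟩

theorem V_small : Nat.beq (Nat.shiftRight V (Nat.pow 2 17)) 0 = true := by decide +kernel

set_option Elab.async false in
theorem V_pc : Nat.beq (pc 17 V) 123552 = true := by (rewrite [Cfsg.Agent.Lib.PermNetFast.pcO_fast]; decide +kernel)

theorem fix0 (g : Fi22) (hg : g ∈ K) : φ g 0 = 0 := by
  have h : U0 = 2 ^ 0 := Nat.eq_of_beq_eq_true (by decide +kernel : Nat.beq U0 (Nat.pow 2 0) = true)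
  have h1 := (orb 0 (φ g 0)).2 ⟨g, hg, rfl⟩
  change U0.testBit (φ g 0) = true at h1
  rw [h, Nat.testBit_two_pow] at h1
  have h2 : 0 = φ g 0 := by simpa using h1
  exact h2.symm

theorem stab (g : Fi22) (hg : φ g 0 = 0) : g ∈ K := by
  have := finite_fi22
  let act : MulAction Fi22 ℕ := MulAction.compHom ℕ φ
  have hsm : ∀ (g : Fi22) (p : ℕ), g • p = φ g p := fun _ _ => rfl
  have h1 : Nat.card (MulAction.orbit Fi22 (0 : ℕ)) = 123552 := by
    rw [Nat.card_coe_set_eq, ← eq_of_card V_small V_pc]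
    congr 1
    ext p
    exact orbit_zero p
  have h2 : Nat.card (MulAction.orbit Fi22 (0 : ℕ)) * Nat.card (MulAction.stabilizer Fi22 (0 : ℕ)) = Nat.card Fi22 := by
    rw [Nat.card_congr (MulAction.orbitEquivQuotientStabilizer Fi22 (0 : ℕ)), ← Subgroup.index_eq_card, mul_comm,
      Subgroup.card_mul_index]
  rw [h1, card_fi22] at h2
  have h3 : Nat.card (MulAction.stabilizer Fi22 (0 : ℕ)) = 522547200 := by omega
  have hle : K ≤ MulAction.stabilizer Fi22 (0 : ℕ) := fun g hg => fix0 g hg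
  have h4 : K = MulAction.stabilizer Fi22 (0 : ℕ) := Subgroup.eq_of_le_of_card_ge hle (by rw [h3]; exact card_K)
  rw [h4]
  exact hg

/-- **The data of the action of `Fi22` on `123552` points.** -/
theorem dat : NetDeg.Dat φ K 0 U rp (fun j => wd (wg j)) 0 where
  orb := orb
  disj := disj
  inv := fun g p h => by rw [← mem_V, V_inv, mem_V]; exact h
  gam := gam
  base := rfl
  fix := fix0
  stab := stab

end Cfsg.Agent.H714.Fi22.Stab

private theorem dce_58a8952bf045 : _root_.True := by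
  try have : _root_.True := by simp only [_root_.Cfsg.Agent.H714.Fi22.Stab.ws1.eq_1]
  exact _root_.True.intro
end

-- part: H714/Fi22/Cell
section
set_option linter.all false
open scoped Cfsg.Agent.FastGrp

/-!
# The collapsed matrices of the action of `Fi22` on 123552 points (helper714)
-/

set_option autoImplicit false
set_option maxRecDepth 100000

namespace Cfsg.Agent.H714.Fi22.Deg

open Cfsg Cfsg.Spor Cfsg.Agent.Lib.PermNet Cfsg.Agent.Lib.PermNetOrbit Cfsg.Agent.H714.Fi22.Rep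
open Cfsg.Agent.H714.Fi22.Stab Cfsg.Agent.H956.K4.RatDeg

/-- the sizes of the classes -/
def kk (j : Fin 7) : ℕ := ![1, 1, 1575, 1575, 22400, 22400, 75600] j

/-- the check of a size -/
noncomputable def sizeB (m b : ℕ) : Bool := and (Nat.beq (Nat.shiftRight m (Nat.pow 2 17)) 0) (Nat.beq (pc 17 m) b)

theorem size_of {m b : ℕ} (h : sizeB m b = true) : {p : ℕ | m.testBit p = true}.ncard = b := by
  unfold sizeB at h
  rw [Bool.and_eq_true] at h
  exact ncard_testBit h.1 h.2

set_option Elab.async false in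
theorem hk (j : Fin 7) : {p : ℕ | (U j).testBit p = true}.ncard = kk j := by
  have h : ∀ j : Fin 7, sizeB (U j) (kk j) = true := by (rewrite [show @Cfsg.Agent.H714.Fi22.Deg.sizeB = delta% @Cfsg.Agent.H714.Fi22.Deg.sizeB from by delta Cfsg.Agent.H714.Fi22.Deg.sizeB; rfl, Cfsg.Agent.Lib.PermNetFast.pcO_fast]; decide +kernel)
  exact size_of (h j)

/-- the mask of a cell of the collapsed matrix -/
noncomputable def cell (c₁ i j : Fin 7) : ℕ := Nat.land (U c₁) (appWord (nw (wg i)) (U j))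

theorem cell_of {c₁ i j : Fin 7} {b : ℕ} (h : sizeB (cell c₁ i j) b = true) :
    {p : ℕ | (U c₁).testBit p = true ∧ (U j).testBit (φ (wd (wg i)) p) = true}.ncard = b := by
  rw [← size_of h]
  congr 1
  ext p
  rw [Set.mem_ofPred_eq, Set.mem_ofPred_eq]
  have h1 : (cell c₁ i j).testBit p = ((U c₁).testBit p && (appWord (nw (wg i)) (U j)).testBit p) :=
    Nat.testBit_and _ _ _
  rw [h1, testBit_appWord (nw_ok _), Bool.and_eq_true, φ_wd]

/-- the collapsed matrix of the class of size 1575 -/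
def B2 (i j : Fin 7) : ℕ :=
  (![![0, 0, 1575, 0, 0, 0, 0], ![0, 0, 0, 1575, 0, 0, 0], ![1, 0, 54, 144, 512, 0, 864], ![0, 1, 144, 54, 0,
    512, 864], ![0, 0, 36, 0, 243, 324, 972], ![0, 0, 0, 36, 324, 243, 972], ![0, 0, 18, 18, 288, 288, 963]] :
    Fin 7 → Fin 7 → ℕ) i j

end Cfsg.Agent.H714.Fi22.Deg
end

-- part: H714/Fi22/CellB
section
set_option linter.all false

/-!
# The check of a collapsed matrix (helper714)
-/

set_option autoImplicit false
set_option maxRecDepth 100000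

namespace Cfsg.Agent.H714.Fi22.Deg

open Cfsg Cfsg.Spor Cfsg.Agent.Lib.PermNet Cfsg.Agent.Lib.PermNetOrbit Cfsg.Agent.H714.Fi22.Rep
open Cfsg.Agent.H714.Fi22.Stab Cfsg.Agent.H956.K4.RatDeg

theorem c2 : ∀ i j : Fin 7, sizeB (cell 2 i j) (B2 i j) = true := by decide +kernel

end Cfsg.Agent.H714.Fi22.Deg
end

-- part: H714/Fi22/Deg
section
set_option linter.all false

/-!
# `Fi22` has rational irreducible characters of degrees 1001, 10725 (helper714)
-/

set_option autoImplicit false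
set_option maxRecDepth 100000

namespace Cfsg.Agent.H714.Fi22.Deg

open Cfsg Cfsg.Spor Cfsg.Agent.Lib.PermNet Cfsg.Agent.Lib.PermNetOrbit Cfsg.Agent.H714.Fi22.Rep
open Cfsg.Agent.H714.Fi22.Stab Cfsg.Agent.H956.K4.RatDeg

/-- the degree 1001 -/
theorem deg_1001 : ∃ χ : IrrCharacter Fi22, charDegree (χ : Fi22 → ℂ) = 1001 ∧ Rt (χ : Fi22 → ℂ) := by
  have := finite_fi22
  exact dat.deg 2 B2 (fun i j => cell_of (c2 i j)) kk hk ![1, -1, -1 / 7, 1 / 7, 1 / 28, -1 / 28, 0]
    (t := (-225)) (d := 1001)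
    (L := ![![0, 0, 0, 0, 0, 0, 0],
      ![19379 / 4276800, 2147 / 475200, -371 / 19008, -35 / 2112, 28 / 2673, 0, 7 / 396],
      ![1 / 1575, 0, 0, 0, 0, 0, 0],
      ![-19379 / 29937600, -1 / 95040, 53 / 19008, 5 / 2112, -4 / 2673, 0, -1 / 396],
      ![-8651 / 53222400, 1 / 844800, 29 / 33792, -3 / 11264, 7 / 2376, 0, -1 / 352],
      ![79847 / 479001600, -37 / 7603200, -545 / 304128, 37 / 33792, 71 / 21384, 0, -7 / 3168],
      ![-7 / 8553600, 1 / 950400, 7 / 38016, -1 / 4224, -4 / 2673, 0, 5 / 2376]])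
    (by decide +kernel) (by decide +kernel) (by decide +kernel) (by decide +kernel)

/-- the degree 10725 -/
theorem deg_10725 : ∃ χ : IrrCharacter Fi22, charDegree (χ : Fi22 → ℂ) = 10725 ∧ Rt (χ : Fi22 → ℂ) := by
  have := finite_fi22
  exact dat.deg 2 B2 (fun i j => cell_of (c2 i j)) kk hk ![1, -1, 1 / 25, -1 / 25, 1 / 100, -1 / 100, 0]
    (t := 63) (d := 10725)
    (L := ![![0, 0, 0, 0, 0, 0, 0],
      ![-4259 / 326592, -451 / 36288, 925 / 5184, 125 / 576, -100 / 729, 0, -25 / 108],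
      ![1 / 1575, 0, 0, 0, 0, 0, 0],
      ![-4259 / 8164800, 5 / 36288, 37 / 5184, 5 / 576, -4 / 729, 0, -1 / 108],
      ![2029 / 14515200, -1 / 64512, -11 / 9216, -1 / 1024, -5 / 648, 0, 1 / 96],
      ![-23561 / 130636800, 29 / 580608, -113 / 82944, 29 / 9216, -53 / 5832, 0, 7 / 864],
      ![1 / 93312, -1 / 72576, 7 / 10368, -1 / 1152, 4 / 729, 0, -1 / 216]])
    (by decide +kernel) (by decide +kernel) (by decide +kernel) (by decide +kernel)

end Cfsg.Agent.H714.Fi22.Deg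
end
end
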